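import Groth.Agent.ExcContr.Stein
import Groth.Agent.PointBlow.Step
import Groth.Agent.Approx.Model
import Groth.Agent.RedComap5.Basic

/-!
# Contractions are local near the curve
-/

set_option autoImplicit false
set_option linter.style.haveILetI false
set_option linter.unusedSectionVars false
set_option backward.isDefEq.respectTransparency false
set_option backward.isDefEq.respectTransparency.types false
set_option maxHeartbeats 800000

universe u

open CategoryTheory CategoryTheory.Limits AlgebraicGeometry TopologicalSpace IsLocalRing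

noncomputable section

namespace Groth.Agent.ContrQP

open Groth.Agent

theorem comap_vanishingIdeal_of_open {U X : Scheme.{u}} (j : U ⟶ X) [IsOpenImmersion j] (C : Closeds X)
    (D : Closeds U) (hD : (D : Set U) = j ⁻¹' (C : Set X)) :
    (Scheme.IdealSheafData.vanishingIdeal C).comap j = Scheme.IdealSheafData.vanishingIdeal D := by
  haveI : IsReduced (Scheme.IdealSheafData.vanishingIdeal C).subscheme := inferInstance
  exact RedComap5.comap_vanishingIdeal j C
    (isReduced_of_isOpenImmersion (pullback.snd j (Scheme.IdealSheafData.vanishingIdeal C).subschemeι)) D hD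

section Restrict

variable {E X P P' : Scheme.{u}} (ι : E ⟶ X) [IsClosedImmersion ι] (j : X ⟶ P) [IsOpenImmersion j]
  [IsClosedImmersion (ι ≫ j)] (c : P ⟶ P')

/-- A contraction on a scheme restricts to a contraction of an open subscheme containing the curve. -/
theorem exists_restrict_contraction (hE : Models.IsExcCurve (ι ≫ j)) (hc : Models.IsContractionOf (ι ≫ j) c) :
    ∃ (O : P'.Opens) (b : X ⟶ (O : Scheme.{u})), IsPullback b j O.ι c ∧ Models.IsContractionOf ι b := by
  obtain ⟨hN, hP, y, hy, hrange, hreg, hdim, hB⟩ := hc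
  haveI := hN
  haveI := hP
  haveI := hreg
  obtain ⟨k, _, e, -⟩ := hE.2
  haveI : IsIntegral (CohB1.ProjSpace 1 k) := H23.PnChart.isIntegral_projSpace 1 k
  obtain ⟨p, q, hpq, hsp⟩ := Contraction7.exists_specializes_projLine k
  have hmem : ∀ a, c ((ι ≫ j) a) = y := fun a => by
    have h : ((ι ≫ j) ≫ c) a ∈ Set.range (((ι ≫ j) ≫ c).base : E → P') := ⟨a, rfl⟩
    rw [hrange] at h
    exact h
  have hfib : c ⁻¹' {y} ⊆ Set.range (ι ≫ j) :=
    Contraction7.fibre_subset c hy hB hdim (ι ≫ j).isClosedEmbedding.isClosed_range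
      (x₀ := (ι ≫ j) (e.hom p)) (x₁ := (ι ≫ j) (e.hom q))
      (fun h => hpq (e.hom.homeomorph.injective ((ι ≫ j).isClosedEmbedding.injective h)))
      ((hsp.map e.hom.continuous).map (ι ≫ j).continuous) ⟨_, rfl⟩ (hmem _) (hmem _)
  let O : P'.Opens :=
    ⟨(c '' (Set.range j)ᶜ)ᶜ, (c.isClosedMap _ j.isOpenEmbedding.isOpen_range.isClosed_compl).isOpen_compl⟩
  have hpre : c ⁻¹ᵁ O = j.opensRange := by
    refine Opens.ext (Set.ext fun x => ⟨fun hx => ?_, fun hx => ?_⟩)
    · by_contra h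
      exact hx ⟨x, h, rfl⟩
    · rintro ⟨x', hx', hxx⟩
      by_cases hxy : c x' = y
      · obtain ⟨a, ha⟩ := hfib hxy
        exact hx' ⟨ι a, ha⟩
      · exact hx' (PointBlow.injective_off hy hB hxy hxx ▸ hx)
  have hle : Set.range (j ≫ c) ⊆ Set.range O.ι := by
    rintro _ ⟨x, rfl⟩
    rw [Scheme.Opens.range_ι]
    exact (hpre.ge ⟨x, rfl⟩ : j x ∈ c ⁻¹ᵁ O)
  let b : X ⟶ (O : Scheme.{u}) := IsOpenImmersion.lift O.ι (j ≫ c) hle
  have hbc : b ≫ O.ι = j ≫ c := IsOpenImmersion.lift_fac _ _ hle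
  have H : IsPullback b j O.ι c := IsOpenImmersion.isPullback b j O.ι c hbc.symm (by
    rw [Scheme.Opens.opensRange_ι, hpre])
  have hyO : y ∈ O := by
    have h := hpre.ge (show (ι ≫ j) (e.hom p) ∈ j.opensRange from ⟨ι (e.hom p), rfl⟩)
    have h' : c ((ι ≫ j) (e.hom p)) ∈ O := h
    rwa [hmem] at h'
  have hy' : IsClosed ({⟨y, hyO⟩} : Set (O : Scheme.{u})) := by
    have : ({⟨y, hyO⟩} : Set (O : Scheme.{u})) = O.ι ⁻¹' {y} :=
      Set.ext fun z => ⟨fun hz => congrArg Subtype.val hz, fun hz => Subtype.ext hz⟩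
    rw [this]
    exact hy.preimage O.ι.continuous
  have hbv : ∀ a, b (ι a) = ⟨y, hyO⟩ := fun a => by
    refine Subtype.ext ?_
    show O.ι (b (ι a)) = y
    rw [← Scheme.Hom.comp_apply, hbc]
    exact hmem a
  haveI : IsLocallyNoetherian (O : Scheme.{u}) := inferInstance
  haveI : CompactSpace (O : Scheme.{u}) := isCompact_iff_compactSpace.1 (NoetherianSpace.isCompact (O : Set P'))
  haveI : AlgebraicGeometry.IsNoetherian (O : Scheme.{u}) := {}
  refine ⟨O, b, H, inferInstance, MorphismProperty.of_isPullback H.flip inferInstance, ⟨y, hyO⟩, hy', ?_, ?_, ?_, ?_⟩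
  · refine Set.Subset.antisymm ?_ ?_
    · rintro _ ⟨a, rfl⟩
      exact hbv a
    · rintro _ rfl
      exact ⟨e.hom p, hbv _⟩
  · exact IsRegularLocalRing.of_ringEquiv (O.stalkIso ⟨y, hyO⟩).commRingCatIsoToRingEquiv.symm
  · rw [← hdim]
    exact ringKrullDim_eq_of_ringEquiv (O.stalkIso ⟨y, hyO⟩).commRingCatIsoToRingEquiv
  · have hD : ({⟨y, hyO⟩} : Set (O : Scheme.{u})) = O.ι ⁻¹' {y} :=
      Set.ext fun z => ⟨fun hz => congrArg Subtype.val hz, fun hz => Subtype.ext hz⟩
    rw [← comap_vanishingIdeal_of_open O.ι ⟨{y}, hy⟩ ⟨{⟨y, hyO⟩}, hy'⟩ hD]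
    exact BlowUpLib.isBlowUp_of_isPullback H hB

end Restrict

section Glue

variable {E X V' : Scheme.{u}} [IsNoetherian X] (ι : E ⟶ X) [IsClosedImmersion ι] (V : X.Opens)
  (ιV : E ⟶ (V : Scheme.{u})) [IsClosedImmersion ιV] (hι : ιV ≫ V.ι = ι) (c : (V : Scheme.{u}) ⟶ V')

include hι in
/-- A contraction of the curve in a neighbourhood extends to a contraction. -/
theorem exists_glue_contraction (hE : Models.IsExcCurve ιV) (hc : Models.IsContractionOf ιV c) :
    ∃ (X' : Scheme.{u}) (b : X ⟶ X') (inr : V' ⟶ X') (_ : IsOpenImmersion inr),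
      IsPullback c V.ι inr b ∧ Models.IsContractionOf ι b := by
  obtain ⟨hN, hP, y, hy, hrange, hreg, hdim, hB⟩ := hc
  haveI := hN
  haveI := hP
  haveI := hreg
  obtain ⟨k, _, e, -⟩ := hE.2
  haveI : IsIntegral (CohB1.ProjSpace 1 k) := H23.PnChart.isIntegral_projSpace 1 k
  obtain ⟨p, q, hpq, hsp⟩ := Contraction7.exists_specializes_projLine k
  have hmem : ∀ a, c (ιV a) = y := fun a => by
    have h : (ιV ≫ c) a ∈ Set.range ((ιV ≫ c).base : E → V') := ⟨a, rfl⟩
    rw [hrange] at h
    exact h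
  have hfib : c ⁻¹' {y} ⊆ Set.range ιV :=
    Contraction7.fibre_subset c hy hB hdim ιV.isClosedEmbedding.isClosed_range
      (x₀ := ιV (e.hom p)) (x₁ := ιV (e.hom q))
      (fun h => hpq (e.hom.homeomorph.injective (ιV.isClosedEmbedding.injective h)))
      ((hsp.map e.hom.continuous).map ιV.continuous) ⟨_, rfl⟩ (hmem _) (hmem _)
  have hιv : ∀ a, (ιV a).1 = ι a := fun a => by
    rw [← hι]
    rfl
  let Z : X.Opens := ⟨(Set.range ι)ᶜ, ι.isClosedEmbedding.isClosed_range.isOpen_compl⟩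
  let W : X.Opens := Z ⊓ V
  let a : (W : Scheme.{u}) ⟶ Z := X.homOfLE inf_le_left
  let w₀ : (W : Scheme.{u}) ⟶ V := X.homOfLE inf_le_right
  let O : V'.Opens := ⟨{y}ᶜ, hy.isOpen_compl⟩
  have hne : ∀ z : W, c (w₀ z) ≠ y := fun z hz => by
    obtain ⟨a', ha'⟩ := hfib hz
    have h2 : (w₀ z).1 = z.1 := X.homOfLE_apply _ _
    exact z.2.1 ⟨a', ((hιv a').symm.trans (congrArg Subtype.val ha')).trans h2⟩
  haveI : IsOpenImmersion (w₀ ≫ c) := by
    haveI := PointBlow.isIso_off hy hB
    haveI : IsOpenImmersion ((c ⁻¹ᵁ O).ι ≫ c) := by rw [← morphismRestrict_ι]; infer_instance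
    have hr : Set.range w₀ ⊆ Set.range (c ⁻¹ᵁ O).ι := by
      rintro _ ⟨z, rfl⟩
      rw [Scheme.Opens.range_ι]
      exact hne z
    haveI : IsOpenImmersion (IsOpenImmersion.lift (c ⁻¹ᵁ O).ι w₀ hr) := by
      haveI : IsOpenImmersion (IsOpenImmersion.lift (c ⁻¹ᵁ O).ι w₀ hr ≫ (c ⁻¹ᵁ O).ι) := by
        rw [IsOpenImmersion.lift_fac]; infer_instance
      exact IsOpenImmersion.of_comp _ (c ⁻¹ᵁ O).ι
    rw [← IsOpenImmersion.lift_fac (c ⁻¹ᵁ O).ι w₀ hr, Category.assoc]
    infer_instance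
  let w := w₀ ≫ c
  let X' := pushout a w
  let inl : (Z : Scheme.{u}) ⟶ X' := pushout.inl a w
  let inr : V' ⟶ X' := pushout.inr a w
  have hcov : V.ι.opensRange ⊔ Z.ι.opensRange = ⊤ := by
    rw [Scheme.Opens.opensRange_ι, Scheme.Opens.opensRange_ι]
    refine top_le_iff.1 fun x _ => ?_
    by_cases hx : x ∈ Set.range ι
    · obtain ⟨a', rfl⟩ := hx
      exact Or.inl (hιv a' ▸ (ιV a').2)
    · exact Or.inr hx
  obtain ⟨b, hbV, hbZ⟩ := Approx.exists_glue2 V.ι Z.ι hcov (c ≫ inr) inl (by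
    have hr : Set.range (pullback.fst V.ι Z.ι ≫ V.ι) ⊆ Set.range W.ι := by
      rintro _ ⟨t, rfl⟩
      rw [Scheme.Opens.range_ι]
      refine ⟨?_, ((pullback.fst V.ι Z.ι) t).2⟩
      rw [pullback.condition]
      exact ((pullback.snd V.ι Z.ι) t).2
    let φ := IsOpenImmersion.lift W.ι (pullback.fst V.ι Z.ι ≫ V.ι) hr
    have h1 : pullback.fst V.ι Z.ι = φ ≫ w₀ := by
      rw [← cancel_mono V.ι, Category.assoc, Scheme.homOfLE_ι, IsOpenImmersion.lift_fac]
    have h2 : pullback.snd V.ι Z.ι = φ ≫ a := by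
      rw [← cancel_mono Z.ι, Category.assoc, Scheme.homOfLE_ι, IsOpenImmersion.lift_fac, pullback.condition]
    rw [h1, h2, Category.assoc, Category.assoc]
    refine congrArg (φ ≫ ·) ?_
    rw [← Category.assoc]
    exact pushout.condition.symm)
  have hbV' : ∀ v : V, b v.1 = inr (c v) := fun v => by
    rw [← Scheme.Hom.comp_apply, ← hbV, Scheme.Hom.comp_apply]
    rfl
  have hbZ' : ∀ v : Z, b v.1 = inl v := fun v => by
    rw [← hbZ, Scheme.Hom.comp_apply]
    rfl
  have hpV : b ⁻¹ᵁ inr.opensRange = V.ι.opensRange := by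
    refine Opens.ext (Set.ext fun x => ⟨fun hx => ?_, ?_⟩)
    · rw [Scheme.Opens.opensRange_ι]
      by_cases hxE : x ∈ Set.range ι
      · obtain ⟨a', rfl⟩ := hxE
        exact hιv a' ▸ (ιV a').2
      · obtain ⟨t, ht⟩ := hx
        obtain ⟨z, hz, -⟩ := Approx.pushout_inl_eq_inr a w ((hbZ' ⟨x, hxE⟩).symm.trans ht.symm)
        have h2 : (a z).1 = z.1 := X.homOfLE_apply _ _
        rw [hz] at h2
        exact (show z.1 = x from h2.symm) ▸ z.2.2
    · rintro ⟨v, rfl⟩
      exact ⟨c v, (hbV' v).symm⟩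
  have hpZ : b ⁻¹ᵁ inl.opensRange = Z.ι.opensRange := by
    refine Opens.ext (Set.ext fun x => ⟨fun hx => ?_, ?_⟩)
    · rw [Scheme.Opens.opensRange_ι]
      intro hxE
      obtain ⟨a', rfl⟩ := hxE
      obtain ⟨t, ht⟩ := hx
      have h1 := hbV' (ιV a')
      rw [hιv, hmem] at h1
      obtain ⟨z, -, hz⟩ := Approx.pushout_inl_eq_inr a w (ht.trans h1)
      exact hne z hz
    · rintro ⟨v, rfl⟩
      exact ⟨v, (hbZ' v).symm⟩
  have HV : IsPullback c V.ι inr b := IsOpenImmersion.isPullback c V.ι inr b hbV hpV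
  have HZ : IsPullback (𝟙 (Z : Scheme.{u})) Z.ι inl b :=
    IsOpenImmersion.isPullback (𝟙 _) Z.ι inl b (by rw [hbZ, Category.id_comp]) hpZ
  have hcov' : inl.opensRange ⊔ inr.opensRange = ⊤ :=
    Opens.ext ((Opens.coe_sup _ _).trans (Approx.pushout_range a w))
  haveI : IsProper b := by
    refine IsZariskiLocalAtTarget.of_openCover (P := @IsProper) (Approx.cover2 inl inr hcov') ?_
    rintro ⟨_ | _⟩
    · show IsProper (pullback.snd b inr)
      rw [← MorphismProperty.cancel_left_of_respectsIso (P := @IsProper) HV.flip.isoPullback.hom,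
        HV.flip.isoPullback_hom_snd]
      infer_instance
    · show IsProper (pullback.snd b inl)
      rw [← MorphismProperty.cancel_left_of_respectsIso (P := @IsProper) HZ.flip.isoPullback.hom,
        HZ.flip.isoPullback_hom_snd]
      infer_instance
  haveI : CompactSpace (Z : Scheme.{u}) := isCompact_iff_compactSpace.1 (NoetherianSpace.isCompact (Z : Set X))
  haveI : IsNoetherian X' :=
    { toIsLocallyNoetherian := (isLocallyNoetherian_iff_openCover (Approx.cover2 inl inr hcov')).2 (by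
        rintro ⟨_ | _⟩
        exacts [inferInstanceAs (IsLocallyNoetherian V'), inferInstanceAs (IsLocallyNoetherian Z)])
      isCompact_univ := by
        rw [← Approx.pushout_range a w]
        exact (isCompact_range inl.continuous).union (isCompact_range inr.continuous) }
  have hy' : IsClosed ({inr y} : Set X') := by
    have he : ({inr y} : Set X') = (inl.opensRange ⊔ inr ''ᵁ O : X'.Opens).1ᶜ := by
      refine Set.ext fun t => ⟨?_, fun ht => ?_⟩
      · rintro rfl (⟨z, hz⟩ | ⟨z, hz, hzy⟩)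
        · obtain ⟨z', -, hz'⟩ := Approx.pushout_inl_eq_inr a w hz
          exact hne z' hz'
        · exact hz (inr.isOpenEmbedding.injective hzy)
      · rcases (Approx.pushout_range a w).ge (Set.mem_univ t) with h | ⟨z, rfl⟩
        · exact absurd (Or.inl h) ht
        · by_contra hzy
          exact ht (Or.inr ⟨z, fun h => hzy (congrArg inr h), rfl⟩)
    rw [he]
    exact (inl.opensRange ⊔ inr ''ᵁ O).isOpen.isClosed_compl
  have hbι : ∀ a', b (ι a') = inr y := fun a' => by
    have h1 := hbV' (ιV a')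
    rwa [hιv, hmem] at h1
  refine ⟨X', b, inr, inferInstance, HV, inferInstance, inferInstance, inr y, hy', ?_, ?_, ?_, ?_⟩
  · refine Set.Subset.antisymm ?_ ?_
    · rintro _ ⟨a', rfl⟩
      exact hbι a'
    · rintro _ rfl
      exact ⟨e.hom p, hbι _⟩
  · exact IsRegularLocalRing.of_ringEquiv (asIso (inr.stalkMap y)).commRingCatIsoToRingEquiv.symm
  · rw [← hdim]
    exact ringKrullDim_eq_of_ringEquiv (asIso (inr.stalkMap y)).commRingCatIsoToRingEquiv
  · haveI : ∀ i : Bool, IsOpenImmersion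
        (match (motive := ∀ i : Bool, cond i (Z : Scheme.{u}) V' ⟶ X') i with | true => inl | false => inr) := by
      rintro (_ | _)
      exacts [inferInstanceAs (IsOpenImmersion inr), inferInstanceAs (IsOpenImmersion inl)]
    refine BlowUpLib.isBlowUp_of_local (ι := Bool) (V := fun i => cond i (Z : Scheme.{u}) V')
      (fun i => match i with | true => inl | false => inr) (hj := ?_)
      (P := fun i => cond i (Z : Scheme.{u}) (V : Scheme.{u}))
      (fun i => match i with | true => 𝟙 (Z : Scheme.{u}) | false => c)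
      (fun i => match i with | true => Z.ι | false => V.ι) ?_ ?_
    · intro t
      rcases (Approx.pushout_range a w).ge (Set.mem_univ t) with ⟨z, hz⟩ | ⟨z, hz⟩
      exacts [⟨true, z, hz⟩, ⟨false, z, hz⟩]
    · rintro (_ | _)
      exacts [HV, HZ]
    · rintro (_ | _)
      · rw [comap_vanishingIdeal_of_open inr ⟨{inr y}, hy'⟩ ⟨{y}, hy⟩ (Set.ext fun z =>
          ⟨fun hz => congrArg inr hz, fun hz => inr.isOpenEmbedding.injective hz⟩)]
        exact hB
      · rw [comap_vanishingIdeal_of_open inl ⟨{inr y}, hy'⟩ ⊥ (Set.ext fun z =>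
          ⟨fun hz => hz.elim, fun hz => by
            obtain ⟨z', -, hz'⟩ := Approx.pushout_inl_eq_inr a w (show inl z = inr y from hz)
            exact hne z' hz'⟩), Scheme.IdealSheafData.vanishingIdeal_bot]
        exact BlowUpLib.isBlowUp_id_top _

end Glue

end Groth.Agent.ContrQP
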