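import Groth.Agent.ContrQP.Glue
import Groth.Agent.S7315
import Groth.Agent.S9710
import Groth.Agent.VAmpleX.Ample
import Groth.Agent.H26.DedMin.Loc
import Groth.Agent.Synt29.PnConst
import Groth.Agent.H28.DefBundle.Line

/-!
# Contracting a curve over an affine base, without properness
-/

set_option autoImplicit false
set_option linter.style.haveILetI false
set_option linter.unusedSectionVars false
set_option backward.isDefEq.respectTransparency false
set_option backward.isDefEq.respectTransparency.types false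
set_option maxHeartbeats 800000

universe u

open CategoryTheory CategoryTheory.Limits AlgebraicGeometry TopologicalSpace IsLocalRing
open Groth.Agent.H23
open scoped Groth.Agent.H23.PicMul

noncomputable section

namespace Groth.Agent.ContrQP

open Groth.Agent

/-- A morphism of finite type from the spectrum of a field onto a closed point is finite. -/
theorem isFinite_field_closed (R k : Type u) [CommRing R] [Field k]
    (c : Spec (CommRingCat.of k) ⟶ Spec (CommRingCat.of R)) [LocallyOfFiniteType c]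
    (hs : IsClosed ({c (closedPoint k)} : Set (Spec (CommRingCat.of R)))) : IsFinite c := by
  obtain ⟨φ, rfl⟩ := Spec.map_surjective c
  rw [IsFinite.SpecMap_iff]
  have hft : φ.hom.FiniteType := (HasRingHomProperty.Spec_iff (P := @LocallyOfFiniteType)).1 inferInstance
  algebraize [φ.hom]
  have hmax : (RingHom.ker φ.hom).IsMaximal := by
    have h := (PrimeSpectrum.isClosed_singleton_iff_isMaximal _).1 hs
    have he : (Spec.map φ (closedPoint k)).asIdeal = RingHom.ker φ.hom := by
      show (maximalIdeal k).comap φ.hom = _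
      rw [IsLocalRing.maximalIdeal_eq_bot]
      rfl
    rwa [he] at h
  let m := RingHom.ker φ.hom
  haveI : m.IsMaximal := hmax
  letI : Field (R ⧸ m) := Ideal.Quotient.field m
  letI : Algebra (R ⧸ m) k := (RingHom.kerLift φ.hom).toAlgebra
  haveI : IsScalarTower R (R ⧸ m) k := IsScalarTower.of_algebraMap_eq fun _ => rfl
  haveI : Algebra.FiniteType R k := hft
  haveI : Algebra.FiniteType (R ⧸ m) k := Algebra.FiniteType.of_restrictScalars_finiteType R _ _
  haveI : Module.Finite (R ⧸ m) k := finite_of_finite_type_of_isJacobsonRing _ _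
  haveI : Module.Finite R (R ⧸ m) := Module.Finite.of_surjective (Submodule.mkQ m) (Submodule.mkQ_surjective m)
  haveI : Module.Finite R k := Module.Finite.trans (R ⧸ m) k
  exact RingHom.finite_algebraMap.2 ‹_›

/-- A projective line over a field lying over a closed point is proper over the base. -/
theorem isProper_line {R : Type u} [CommRing R] {E : Scheme.{u}} {k : Type u} [Field k]
    (e : CohB1.ProjSpace 1 k ≅ E) (h : E ⟶ Spec (CommRingCat.of R)) [LocallyOfFiniteType h]
    {s : Spec (CommRingCat.of R)} (hs0 : IsClosed ({s} : Set (Spec (CommRingCat.of R))))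
    (hs : ∀ a, h a = s) : IsProper h := by
  haveI := PnCoh.Chow.isProper_toSpec 1 k
  haveI := Synt29.PnConst.isIso_toSpec_appTop (k := k) 1
  obtain ⟨c, hc⟩ := Synt29.PnConst.exists_factor_of_isIso_appTop (CohB1.ProjSpace.toSpec 1 k) (e.hom ≫ h)
  have hc' : c = H28.DefBundle.pt k ≫ e.hom ≫ h := by
    rw [hc, ← Category.assoc, H28.DefBundle.pt_toSpec, Category.id_comp]
  haveI : LocallyOfFiniteType c := by rw [hc']; infer_instance
  haveI : IsFinite c := isFinite_field_closed R k c (by
    have he : c (closedPoint k) = s := by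
      rw [hc', Scheme.Hom.comp_apply, Scheme.Hom.comp_apply]
      exact hs _
    rw [he]
    exact hs0)
  rw [show h = e.inv ≫ CohB1.ProjSpace.toSpec 1 k ≫ c by rw [← hc, Iso.inv_hom_id_assoc]]
  infer_instance

/-- Contraction over an affine base of a curve over a closed point, with an ample module on the result. -/
theorem exists_contraction_local (R : Type u) [CommRing R] [IsNoetherianRing R] {E X : Scheme.{u}} [IsNoetherian X]
    (q : X ⟶ Spec (CommRingCat.of R)) [LocallyOfFiniteType q] (L : X.Modules) (hL : CohB1.IsAmple L)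
    (ι : E ⟶ X) [IsClosedImmersion ι] (hE : Models.IsExcCurve ι)
    (s : Spec (CommRingCat.of R)) (hs0 : IsClosed ({s} : Set (Spec (CommRingCat.of R)))) (hs : ∀ a, q (ι a) = s)
    (M : X.Modules) (hM : ClSub.IsInverseOf M (ClSub.idealMod ι.ker)) :
    ∃ (X' : Scheme.{u}) (b : X ⟶ X') (g : X' ⟶ Spec (CommRingCat.of R)), Models.IsContractionOf ι b ∧ b ≫ g = q ∧
      LocallyOfFiniteType g ∧ ∃ (m n : ℕ) (L' : X'.Modules), 0 < m ∧ CohB1.IsAmple L' ∧
        Nonempty ((Scheme.Modules.pullback b).obj L' ≅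
          CohB1.tensorMod (CohB1.tensorPow L m) (CohB1.tensorPow M n)) := by
  have hE' := hE
  obtain ⟨heff, k, hk, e, -⟩ := hE'
  obtain ⟨m, hm, hva⟩ := S9710.result q L hL
  obtain ⟨N, i, hi, hiq, ⟨θ⟩⟩ := hva m le_rfl
  haveI := hi
  haveI := PnCoh.Chow.isProper_toSpec N (ULift.{u} ℤ)
  haveI : IsProper (CohB1.ProjSpaceOver.toBase N (Spec (CommRingCat.of R))) := by
    unfold CohB1.ProjSpaceOver.toBase; infer_instance
  haveI : QuasiSeparatedSpace (CohB1.ProjSpaceOver N (Spec (CommRingCat.of R))) :=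
    quasiSeparatedSpace_of_quasiSeparated (CohB1.ProjSpaceOver.toBase N (Spec (CommRingCat.of R)))
  haveI : QuasiCompact i := quasiCompact_of_compactSpace i
  let P := i.image
  let p : P ⟶ Spec (CommRingCat.of R) := i.imageι ≫ CohB1.ProjSpaceOver.toBase N (Spec (CommRingCat.of R))
  haveI : IsProper p := inferInstanceAs (IsProper (i.imageι ≫ _))
  let j : X ⟶ P := i.toImage
  have hjp : j ≫ p = q := by
    show i.toImage ≫ i.imageι ≫ _ = q
    rw [Scheme.Hom.toImage_imageι_assoc]
    exact hiq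
  haveI : IsLocallyNoetherian P := LocallyOfFiniteType.isLocallyNoetherian p
  let LP := (Scheme.Modules.pullback i.imageι).obj (Twist.twistOver N (Spec (CommRingCat.of R)) 1)
  have hLP : CohB1.IsAmple LP :=
    VAmpleX.isAmple_of_isRelVeryAmplePn p ⟨N, i.imageι, inferInstance, rfl, ⟨Iso.refl _⟩⟩
  haveI : IsClosedImmersion (ι ≫ j) := by
    haveI : IsProper ((ι ≫ j) ≫ p) := by
      rw [Category.assoc, hjp]
      exact isProper_line e (ι ≫ q) hs0 fun a => hs a
    haveI : IsProper (ι ≫ j) := IsProper.of_comp (ι ≫ j) p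
    exact IsClosedImmersion.of_isPreimmersion _ (ι ≫ j).isClosedMap.isClosed_range
  have hEP : Models.IsExcCurve (ι ≫ j) :=
    H26.DedMin.isExcCurve_down j ι (ι ≫ j) rfl j.isOpenEmbedding.injective hE
  have hker : (ι ≫ j).ker.comap j = ι.ker :=
    H26.DedMin.comap_ker j ι (ι ≫ j) rfl j.isOpenEmbedding.injective
  have hIP : PicF.IsInvertible (ClSub.idealMod (ι ≫ j).ker) := H26.IdealCl.isInvertible_idealMod hEP.1
  obtain ⟨MP, hMP, ⟨eP⟩⟩ := PicInv.exists_inverse hIP
  have hMP' : ClSub.IsInverseOf MP (ClSub.idealMod (ι ≫ j).ker) :=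
    ⟨(PicMul.comm _ _).some ≪≫ eP⟩
  have hjM : PicF.pullCl j (PicF.cl MP) = PicF.cl M := by
    have h1 : PicF.pullCl j (PicF.cl MP) * PicF.cl (ClSub.idealMod ι.ker) = 1 := by
      have h2 : PicF.pullCl j (PicF.cl (ClSub.idealMod (ι ≫ j).ker)) = PicF.cl (ClSub.idealMod ι.ker) :=
        PicMul.cl_eq_iff.2 ⟨(H26.InterDiv.nonempty_pullback_idealMod j _ hEP.1
          (ExcContr.isEffCartier_comap_of_isIso j hEP.1)).some ≪≫ eqToIso (congrArg ClSub.idealMod hker)⟩
      rw [← h2, ← PicMul.pullCl_mul, ← PicMul.cl_tensor]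
      rw [show PicF.cl (CohB1.tensorMod MP (ClSub.idealMod (ι ≫ j).ker)) = 1 from PicMul.cl_eq_iff.2 hMP']
      exact PicMul.pullCl_one j
    have h3 : PicF.cl M * PicF.cl (ClSub.idealMod ι.ker) = 1 := by
      rw [← PicMul.cl_tensor, PicMul.one_def]; exact PicMul.cl_eq_iff.2 hM
    calc PicF.pullCl j (PicF.cl MP) = PicF.pullCl j (PicF.cl MP) * (PicF.cl M * PicF.cl (ClSub.idealMod ι.ker)) := by
          rw [h3, mul_one]
      _ = PicF.cl M * (PicF.pullCl j (PicF.cl MP) * PicF.cl (ClSub.idealMod ι.ker)) := mul_left_comm _ _ _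
      _ = PicF.cl M := by rw [h1, mul_one]
  obtain ⟨P', c, g, hc, hcg, hg, n, L'', hL'', ⟨ψ⟩⟩ := S7315.result R p LP hLP (ι ≫ j) hEP MP hMP'
  haveI := hg
  obtain ⟨O, b, H, hb⟩ := exists_restrict_contraction ι j c hEP hc
  haveI : AlgebraicGeometry.IsNoetherian (O : Scheme.{u}) := hb.1
  refine ⟨O, b, O.ι ≫ g, hb, ?_, inferInstance, m, n, (Scheme.Modules.pullback O.ι).obj L'', hm,
    AmpleVan.isAmple_pullback_of_isEmbedding O.ι O.ι.isOpenEmbedding.isEmbedding hL'', ?_⟩
  · rw [← Category.assoc, H.w, Category.assoc, hcg, hjp]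
  · refine PicMul.cl_eq_iff.1 ?_
    show PicF.pullCl b (PicF.pullCl O.ι (PicF.cl L'')) = _
    rw [PicClLib.pullCl_comp, H.w, ← PicClLib.pullCl_comp,
      show PicF.pullCl c (PicF.cl L'') = PicF.cl (CohB1.tensorMod LP (CohB1.tensorPow MP n)) from
        PicMul.cl_eq_iff.2 ⟨ψ⟩,
      PicMul.cl_tensor, PicMul.pullCl_mul, PicMul.cl_tensor, PicMul.cl_tensorPow MP n, PicMul.pullCl_pow, hjM,
      PicMul.cl_tensorPow M n]
    refine congrArg (· * PicF.cl M ^ n) ?_
    show PicF.pullCl j (PicF.pullCl i.imageι (PicF.cl (Twist.twistOver N (Spec (CommRingCat.of R)) 1))) = _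
    rw [PicClLib.pullCl_comp, Scheme.Hom.toImage_imageι]
    exact (PicMul.cl_eq_iff.2 ⟨θ⟩).symm

end Groth.Agent.ContrQP
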