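import Groth.Agent.ContrQP.Local
import Groth.Agent.AmpleX.Sect
import Groth.Agent.FtPts6.Basic
import Groth.Agent.S4711
import Groth.Agent.S7307
import Groth.Agent.S7325

/-!
# Contractions over a Noetherian base and relative ampleness
-/

set_option autoImplicit false
set_option linter.style.haveILetI false
set_option linter.unusedSectionVars false
set_option backward.isDefEq.respectTransparency false
set_option backward.isDefEq.respectTransparency.types false
set_option maxHeartbeats 800000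

universe u

open CategoryTheory CategoryTheory.Limits AlgebraicGeometry TopologicalSpace IsLocalRing
open Groth.Agent.H23
open scoped Groth.Agent.H23.PicMul

noncomputable section

namespace Groth.Agent.ContrQP

open Groth.Agent

/-- The powers of a module have sections which generate wherever a given section does. -/
theorem exists_sect_pow {X : Scheme.{u}} {M : X.Modules} (hM : PicF.IsInvertible M) (σ : Coh.structureModule X ⟶ M)
    {Z : X.Opens} (hZ : Z ≤ CohB1.genLocus M σ) :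
    ∀ a : ℕ, ∃ t : Γ(CohB1.tensorPow M a, ⊤), Z ≤ AmpleX.locus t
  | 0 => by
    obtain ⟨t, ht⟩ := AmpleX.exists_locus_cl (N := CohB1.tensorPow M 0)
      (show PicF.cl (Coh.structureModule X) = _ by rw [PicMul.cl_tensorPow, pow_zero, PicMul.one_def])
      (show Γ(Coh.structureModule X, ⊤) from (1 : Γ(X, ⊤)))
    refine ⟨t, ht.symm ▸ le_trans le_top (AmpleX.le_locus _ le_rfl ?_)⟩
    rw [AModX.res_self]
    exact InvX.isFrame_one ⊤
  | a + 1 => ⟨InvX.one (InvX.powHom σ (a + 1)), by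
      rw [← AmpleX.genLocus_eq_locus, InvX.genLocus_powHom hM σ a]; exact hZ⟩

variable {E X S : Scheme.{u}}

/-- The point under a curve is closed in an affine neighbourhood. -/
theorem exists_affine_closed [IsNoetherian S] [IsNoetherian X] (f : X ⟶ S) [LocallyOfFiniteType f]
    (ι : E ⟶ X) [IsClosedImmersion ι] (s : S) (hs : Set.range ((ι ≫ f).base : E → S) = {s}) :
    ∃ U : S.Opens, IsAffineOpen U ∧ ∃ h : s ∈ U, IsClosed ({⟨s, h⟩} : Set ↥U) := by
  haveI : CompactSpace E := QuasiCompact.compactSpace_of_compactSpace ι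
  haveI : QuasiCompact (ι ≫ f) := quasiCompact_of_compactSpace _
  haveI : LocallyOfFinitePresentation (ι ≫ f) :=
    LocallyOfFinitePresentation.iff_locallyOfFiniteType.2 inferInstance
  have h1 : Topology.IsConstructible ({s} : Set S) := by
    have := (ι ≫ f).isConstructible_image (s := Set.univ) Topology.IsConstructible.univ
    rwa [Set.image_univ, hs] at this
  obtain ⟨x, rfl, hx⟩ := S4711.result S {s} h1.isLocallyConstructible ⟨s, rfl⟩
  exact FtPts6.isLocallyClosed_singleton_iff.1 hx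

/-- Contraction of an exceptional curve on a quasi-projective scheme over a Noetherian base. -/
theorem exists_contraction [IsNoetherian S] (f : X ⟶ S) (hf : RelProj.IsQuasiProjective f) (ι : E ⟶ X)
    [IsClosedImmersion ι] (hE : Models.IsExcCurve ι) (s : S) (hs : Set.range ((ι ≫ f).base : E → S) = {s}) :
    ∃ (X' : Scheme.{u}) (b : X ⟶ X') (g : X' ⟶ S), Models.IsContractionOf ι b ∧ b ≫ g = f ∧
      RelProj.IsQuasiProjective g := by
  obtain ⟨hlft, hqc, L₀, hL₀⟩ := hf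
  haveI := hlft
  haveI := hqc
  haveI : IsLocallyNoetherian X := LocallyOfFiniteType.isLocallyNoetherian f
  haveI : CompactSpace X := QuasiCompact.compactSpace_of_compactSpace f
  haveI : IsNoetherian X := {}
  have hE' := hE
  obtain ⟨heff, k, hk, e, -⟩ := hE'
  obtain ⟨p₀⟩ : Nonempty (CohB1.ProjSpace 1 k) := by
    haveI := H23.PnChart.isIntegral_projSpace 1 k
    infer_instance
  haveI : Nonempty E := ⟨e.hom p₀⟩
  have hfs : ∀ a, f (ι a) = s := fun a => hs.le ⟨a, rfl⟩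
  obtain ⟨U₀, hU₀, hsU, hcl⟩ := exists_affine_closed f ι s hs
  let V : X.Opens := f ⁻¹ᵁ U₀
  haveI : IsNoetherianRing Γ(S, U₀) := IsLocallyNoetherian.component_noetherian ⟨U₀, hU₀⟩
  haveI : CompactSpace (V : Scheme.{u}) := isCompact_iff_compactSpace.1 (NoetherianSpace.isCompact (V : Set X))
  haveI : AlgebraicGeometry.IsNoetherian (V : Scheme.{u}) := {}
  let q : (V : Scheme.{u}) ⟶ Spec (CommRingCat.of Γ(S, U₀)) := (f ∣_ U₀) ≫ hU₀.isoSpec.hom
  haveI : LocallyOfFiniteType (f ∣_ U₀) := IsZariskiLocalAtTarget.restrict (P := @LocallyOfFiniteType) hlft U₀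
  have hr : Set.range ι ⊆ Set.range V.ι := by
    rintro _ ⟨a, rfl⟩
    rw [Scheme.Opens.range_ι]
    show f (ι a) ∈ U₀
    rw [hfs]
    exact hsU
  let ιV : E ⟶ (V : Scheme.{u}) := IsOpenImmersion.lift V.ι ι hr
  have hιV : ιV ≫ V.ι = ι := IsOpenImmersion.lift_fac _ _ hr
  haveI : IsClosedImmersion ιV := by
    haveI : IsClosedImmersion (ιV ≫ V.ι) := by rw [hιV]; infer_instance
    exact IsClosedImmersion.of_comp ιV V.ι
  have hEV : Models.IsExcCurve ιV := H26.DedMin.isExcCurve_up V.ι ιV ι hιV V.ι.isOpenEmbedding.injective hE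
  have hker : ι.ker.comap V.ι = ιV.ker := H26.DedMin.comap_ker V.ι ιV ι hιV V.ι.isOpenEmbedding.injective
  have hI : PicF.IsInvertible (ClSub.idealMod ι.ker) := H26.IdealCl.isInvertible_idealMod heff
  obtain ⟨M, hM, ⟨eM⟩⟩ := PicInv.exists_inverse hI
  have hMI : ClSub.IsInverseOf M (ClSub.idealMod ι.ker) := ⟨(PicMul.comm _ _).some ≪≫ eM⟩
  have hMV : ClSub.IsInverseOf ((Scheme.Modules.pullback V.ι).obj M) (ClSub.idealMod ιV.ker) := by
    refine PicMul.cl_eq_iff.1 ?_
    have h2 : PicF.pullCl V.ι (PicF.cl (ClSub.idealMod ι.ker)) = PicF.cl (ClSub.idealMod ιV.ker) :=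
      PicMul.cl_eq_iff.2 ⟨(H26.InterDiv.nonempty_pullback_idealMod V.ι _ heff
        (ExcContr.isEffCartier_comap_of_isIso V.ι heff)).some ≪≫ eqToIso (congrArg ClSub.idealMod hker)⟩
    rw [PicMul.cl_tensor, ← h2]
    show PicF.pullCl V.ι (PicF.cl M) * _ = _
    rw [← PicMul.pullCl_mul, ← PicMul.cl_tensor, PicMul.cl_eq_iff.2 hMI, ← PicMul.one_def, PicMul.pullCl_one]
    rfl
  have hqs : ∀ a, q (ιV a) = hU₀.isoSpec.hom ⟨s, hsU⟩ := fun a => by
    show hU₀.isoSpec.hom ((f ∣_ U₀) (ιV a)) = _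
    refine congrArg _ (Subtype.ext ?_)
    rw [morphismRestrict_base_coe]
    have h : (ιV a).1 = ι a := by rw [← hιV]; rfl
    rw [h]
    exact hfs a
  have hs0 : IsClosed ({hU₀.isoSpec.hom ⟨s, hsU⟩} : Set (Spec (CommRingCat.of Γ(S, U₀)))) := by
    have := hU₀.isoSpec.hom.homeomorph.isClosedMap _ hcl
    rwa [Set.image_singleton] at this
  obtain ⟨V', c, g₀, hc, hcg, hg₀, m, n, L'', hm, hL'', ⟨ψ⟩⟩ :=
    exists_contraction_local Γ(S, U₀) q (L₀.restrict V.ι) (hL₀.2 ⟨U₀, hU₀⟩) ιV hEV _ hs0 hqs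
      ((Scheme.Modules.pullback V.ι).obj M) hMV
  obtain ⟨X', b, inr, hinr, H, hb⟩ := exists_glue_contraction ι V ιV hιV c hEV hc
  haveI := hinr
  haveI : AlgebraicGeometry.IsNoetherian V' := hc.1
  have hb' := hb
  obtain ⟨hX', hbP, y, hy, hrange, hreg, hdim, hB⟩ := hb'
  haveI := hX'
  haveI := hbP
  haveI := hreg
  have hby : ∀ a, b (ι a) = y := fun a => hrange.le ⟨a, rfl⟩
  obtain ⟨g, hbg, -⟩ := S7307.result ι hE b hb f s hs
  -- the structure map near the point
  have hin : inr ≫ g = g₀ ≫ hU₀.isoSpec.inv ≫ U₀.ι := by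
    refine (S7307.result ιV hEV c hc (V.ι ≫ f) s ?_).unique ?_ ?_
    · rw [← Category.assoc, hιV]; exact hs
    · rw [← Category.assoc, H.w, Category.assoc, hbg]
    · rw [← Category.assoc, hcg]
      show ((f ∣_ U₀) ≫ hU₀.isoSpec.hom) ≫ hU₀.isoSpec.inv ≫ U₀.ι = _
      rw [Category.assoc, Iso.hom_inv_id_assoc, morphismRestrict_ι]
  let O : X'.Opens := ⟨{y}ᶜ, hy.isOpen_compl⟩
  haveI := PointBlow.isIso_off hy hB
  have hsurj : ∀ w : X', w ≠ y → ∃ x, b x = w ∧ x ∉ Set.range ι := fun w hw => by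
    obtain ⟨v, hv⟩ := (b ∣_ O).surjective ⟨w, hw⟩
    have h : b v.1 = w := (morphismRestrict_base_coe b O v).symm.trans (congrArg Subtype.val hv)
    exact ⟨v.1, h, fun ⟨a, ha⟩ => hw (h.symm.trans (ha ▸ hby a))⟩
  have hpre : g ⁻¹ᵁ U₀ ≤ inr.opensRange := fun w hw => by
    obtain ⟨x, rfl⟩ : ∃ x, b x = w := by
      by_cases h : w = y
      · exact ⟨ι (e.hom p₀), (hby _).trans h.symm⟩
      · obtain ⟨x, hx, -⟩ := hsurj w h
        exact ⟨x, hx⟩
    have hxV : x ∈ V := by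
      show f x ∈ U₀
      rw [← hbg]
      exact hw
    refine ⟨c ⟨x, hxV⟩, ?_⟩
    rw [← Scheme.Hom.comp_apply, H.w]
    rfl
  have hg : LocallyOfFiniteType g := by
    refine IsZariskiLocalAtSource.of_iSup_eq_top (P := @LocallyOfFiniteType)
      (fun i : Bool => cond i inr.opensRange O) (top_le_iff.1 fun w _ => ?_) ?_
    · by_cases h : w = y
      · refine Opens.mem_iSup.2 ⟨true, hpre ?_⟩
        show g w ∈ U₀
        rw [h, ← hby (e.hom p₀), ← Scheme.Hom.comp_apply, hbg, hfs]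
        exact hsU
      · exact Opens.mem_iSup.2 ⟨false, h⟩
    · rintro (_ | _)
      · show LocallyOfFiniteType (O.ι ≫ g)
        rw [← MorphismProperty.cancel_left_of_respectsIso (P := @LocallyOfFiniteType) (b ∣_ O),
          morphismRestrict_ι_assoc, hbg]
        infer_instance
      · show LocallyOfFiniteType (inr.opensRange.ι ≫ g)
        rw [← MorphismProperty.cancel_left_of_respectsIso (P := @LocallyOfFiniteType) inr.isoOpensRange.hom,
          Scheme.Hom.isoOpensRange_hom_ι_assoc, hin]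
        haveI := hg₀
        infer_instance
  haveI := hg
  haveI : QuasiCompact g := quasiCompact_of_compactSpace g
  haveI : QuasiSeparated g := inferInstance
  -- the modules
  have hL₀i : PicF.IsInvertible L₀ := AmpleX.isInvertible_of_isRelAmple hL₀
  let L := CohB1.tensorPow L₀ m
  have hL : RelAmple.IsRelAmple f L := (AmpleX.isRelAmple_tensorPow_iff hL₀i hm).1 hL₀
  have hLi : PicF.IsInvertible L := InvX.isInvertible_tensorPow hL₀i m
  let N := CohB1.tensorMod L (CohB1.tensorPow M n)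
  have hN : PicF.IsInvertible N := InvX.isInvertible_tensorMod hLi (InvX.isInvertible_tensorPow hM n)
  have hψ : PicF.pullCl c (PicF.cl L'') = PicF.pullCl V.ι (PicF.cl N) := by
    rw [show PicF.pullCl c (PicF.cl L'') = _ from PicMul.cl_eq_iff.2 ⟨ψ⟩, PicMul.cl_tensor, PicMul.cl_tensor,
      PicMul.pullCl_mul, PicMul.cl_tensorPow, PicMul.cl_tensorPow, PicMul.cl_tensorPow, PicMul.cl_tensorPow,
      PicMul.pullCl_pow, PicMul.pullCl_pow]
    rw [PicMul.cl_eq_iff.2 ⟨(Scheme.Modules.restrictFunctorIsoPullback V.ι).app L₀⟩]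
    rfl
  have htriv : Nonempty ((Scheme.Modules.pullback ι).obj N ≅ Coh.structureModule E) := by
    obtain ⟨τ⟩ := ((S7325.result ιV hEV c hc).2 ((Scheme.Modules.pullback V.ι).obj N)
      (PicClLib.isInvertible_pullback V.ι hN)).1 ⟨L'', hL''.1, PicMul.cl_eq_iff.1 hψ⟩
    exact ⟨(Scheme.Modules.pullbackCongr hιV.symm).app N ≪≫ ((Scheme.Modules.pullbackComp ιV V.ι).app N).symm ≪≫ τ⟩
  obtain ⟨L', hL', ⟨ξ⟩⟩ := ((S7325.result ι hE b hb).2 N hN).2 htriv
  have hξ : PicF.pullCl b (PicF.cl L') = PicF.cl N := PicMul.cl_eq_iff.2 ⟨ξ⟩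
  have hA : CohB1.IsAmple (L'.restrict inr) := by
    obtain ⟨τ⟩ := (S7325.result ιV hEV c hc).1 _ _ (PicClLib.isInvertible_pullback inr hL') hL''.1
      (PicMul.cl_eq_iff.1 (show PicF.pullCl c (PicF.pullCl inr (PicF.cl L')) = PicF.pullCl c (PicF.cl L'') by
        rw [PicClLib.pullCl_comp, H.w, ← PicClLib.pullCl_comp, hξ, hψ]))
    exact AmpleX.isAmple_of_iso (τ.symm ≪≫ ((Scheme.Modules.restrictFunctorIsoPullback inr).app L').symm) hL''
  have h0 := Contraction7.bijective_app b hy hB ⟨_, hby (e.hom p₀)⟩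
  obtain ⟨σ, hσ⟩ := ExcContr.exists_canonical ι hM hMI
  let Z : X.Opens := ⟨(Set.range ι)ᶜ, ι.isClosedEmbedding.isClosed_range.isOpen_compl⟩
  refine ⟨X', b, g, hb, hbg, hg, inferInstance, L', inferInstance, fun W => ?_⟩
  refine AmpleX.isAmple_preimage_of_local hL' W.2 fun w hwW => ?_
  by_cases hw : w = y
  · subst hw
    have hgs : g w = s := by rw [← hby (e.hom p₀), ← Scheme.Hom.comp_apply, hbg]; exact hfs _
    obtain ⟨r, hr', hsr⟩ := W.2.exists_basicOpen_le (V := U₀) ⟨g w, hgs ▸ hsU⟩ hwW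
    have hrange' : g ⁻¹ᵁ S.basicOpen r ≤ inr ''ᵁ (⊤ : V'.Opens) := by
      rw [Scheme.Hom.image_top_eq_opensRange]
      exact (g.preimage_mono hr').trans hpre
    obtain ⟨d, hd, a, hxa, hle', ha⟩ :=
      AmpleX.exists_locus_le inr hA (hrange' hsr) (U := g ⁻¹ᵁ S.basicOpen r) hsr
    refine ⟨r, d, hd, AModX.res (CohB1.tensorPow L' d) hrange' a, ?_⟩
    rw [AmpleX.locus_res, inf_eq_left.2 hle']
    exact ⟨hxa, ha⟩
  · obtain ⟨x, rfl, hxE⟩ := hsurj w hw
    let j := (f ⁻¹ᵁ W.1).ι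
    have hxW : x ∈ j ''ᵁ (⊤ : (f ⁻¹ᵁ W.1).toScheme.Opens) := by
      rw [Scheme.Opens.ι_image_top]
      show f x ∈ W.1
      rw [← hbg]
      exact hwW
    obtain ⟨d, hd, a, hxa, haZ, ha⟩ := AmpleX.exists_locus_le j (hL.2 W) hxW (U := Z) hxE
    have hle : b ⁻¹ᵁ g ⁻¹ᵁ W.1 ≤ j ''ᵁ (⊤ : (f ⁻¹ᵁ W.1).toScheme.Opens) := by
      rw [Scheme.Opens.ι_image_top, ← hbg]
      exact le_of_eq rfl
    have hge : j ''ᵁ (⊤ : (f ⁻¹ᵁ W.1).toScheme.Opens) ≤ b ⁻¹ᵁ g ⁻¹ᵁ W.1 := by
      rw [Scheme.Opens.ι_image_top, ← hbg]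
      exact le_of_eq rfl
    obtain ⟨t, ht⟩ := exists_sect_pow hM σ (hσ Z fun a h => h ⟨a, rfl⟩) (n * d)
    let a₁ := AModX.res (CohB1.tensorPow L d) hle a
    let t₁ := AModX.res (CohB1.tensorPow M (n * d)) (le_top : b ⁻¹ᵁ g ⁻¹ᵁ W.1 ≤ ⊤) t
    have hLd := InvX.isInvertible_tensorPow hLi d
    have ha₁ : AmpleX.locus (InvX.tmul a₁ t₁) = AmpleX.locus a := by
      rw [AmpleX.locus_tmul hLd (InvX.isInvertible_tensorPow hM _), AmpleX.locus_res, AmpleX.locus_res,
        inf_eq_left.2 ((AmpleX.locus_le a).trans hge)]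
      exact inf_eq_left.2 (le_inf (haZ.trans ht) ((AmpleX.locus_le a).trans hge))
    obtain ⟨c₁, hc₁⟩ := AmpleX.exists_locus_cl
      (N := (Scheme.Modules.pullback b).obj (CohB1.tensorPow L' d))
      (show PicF.cl (CohB1.tensorMod (CohB1.tensorPow L d) (CohB1.tensorPow M (n * d))) =
          PicF.pullCl b (PicF.cl (CohB1.tensorPow L' d)) by
        rw [PicMul.cl_tensorPow L' d, PicMul.pullCl_pow, hξ, PicMul.cl_tensor, PicMul.cl_tensor,
          PicMul.cl_tensorPow M, PicMul.cl_tensorPow M, PicMul.cl_tensorPow L d, mul_pow, ← pow_mul])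
      (InvX.tmul a₁ t₁)
    have hL'd := InvX.isInvertible_tensorPow hL' d
    haveI := FibrePP.isIso_unit b h0 hL'd
    obtain ⟨a', ha'⟩ : ∃ a' : Γ(CohB1.tensorPow L' d, g ⁻¹ᵁ W.1), InvX.pullElt b a' = c₁ :=
      (ZClosLib.app_bijective_of_isIso
        ((Scheme.Modules.pullbackPushforwardAdjunction b).unit.app (CohB1.tensorPow L' d)) (g ⁻¹ᵁ W.1)).2 c₁
    have hloc : b ⁻¹ᵁ AmpleX.locus a' = AmpleX.locus a := by
      rw [← AmpleX.locus_pullElt hL'd b a', ha', hc₁, ha₁]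
    have hyl : y ∉ AmpleX.locus a' := fun hyl => by
      have h : ι (e.hom p₀) ∈ b ⁻¹ᵁ AmpleX.locus a' := by
        show b _ ∈ AmpleX.locus a'
        rw [hby]
        exact hyl
      rw [hloc] at h
      exact haZ h ⟨_, rfl⟩
    haveI := Contraction7.isIso_restrict_of_notMem b hy hB hyl
    haveI : IsAffine (b ⁻¹ᵁ AmpleX.locus a').toScheme := by rw [hloc]; exact ha
    have haff : IsAffineOpen (AmpleX.locus a') := IsAffine.of_isIso (inv (b ∣_ AmpleX.locus a'))
    have hxa' : b x ∈ AmpleX.locus a' := by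
      show x ∈ b ⁻¹ᵁ AmpleX.locus a'
      rw [hloc]
      exact hxa
    refine ⟨1, d, hd, AModX.res (CohB1.tensorPow L' d) (g.preimage_mono (S.basicOpen_le 1)) a', ?_⟩
    rw [AmpleX.locus_res, inf_eq_left.2 ((AmpleX.locus_le a').trans (by rw [Scheme.basicOpen_of_isUnit _ isUnit_one]))]
    exact ⟨hxa', haff⟩

/-- Contraction of an exceptional curve on a projective scheme over a Noetherian base. -/
theorem exists_contraction_projective [IsNoetherian S] (f : X ⟶ S) [IsProper f] (hf : RelProj.IsQuasiProjective f)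
    (ι : E ⟶ X) [IsClosedImmersion ι] (hE : Models.IsExcCurve ι) (s : S)
    (hs : Set.range ((ι ≫ f).base : E → S) = {s}) :
    ∃ (X' : Scheme.{u}) (b : X ⟶ X') (g : X' ⟶ S), Models.IsContractionOf ι b ∧ b ≫ g = f ∧
      RelProj.IsQuasiProjective g ∧ IsProper g := by
  obtain ⟨X', b, g, hb, hbg, hg⟩ := exists_contraction f hf ι hE s hs
  refine ⟨X', b, g, hb, hbg, hg, ?_⟩
  obtain ⟨hX', hbP, y, hy, hrange, hreg, hdim, hB⟩ := hb
  haveI := hX'
  haveI := hbP
  obtain ⟨hlft, hqc, L', hL'⟩ := hg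
  haveI := hlft
  haveI := hqc
  haveI : IsSeparated g := AmpleX.isSeparated_of_ampleOn fun x => AmpleX.ampleOn_of_isRelAmple hL' (g x)
  haveI : Surjective b := ⟨fun w => by
    by_cases h : w = y
    · obtain ⟨a, ha⟩ := hrange.ge (show w ∈ ({y} : Set X') from h)
      exact ⟨ι a, ha⟩
    · haveI := PointBlow.isIso_off hy hB
      obtain ⟨v, hv⟩ := (b ∣_ (⟨{y}ᶜ, hy.isOpen_compl⟩ : X'.Opens)).surjective ⟨w, h⟩
      exact ⟨v.1, (morphismRestrict_base_coe b _ v).symm.trans (congrArg Subtype.val hv)⟩⟩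
  haveI : UniversallyClosed (b ≫ g) := by rw [hbg]; infer_instance
  haveI : UniversallyClosed g := UniversallyClosed.of_comp_surjective b g
  exact {}

end Groth.Agent.ContrQP
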