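import Groth.Agent.ContrQP.Main
import Groth.Agent.S4415
import Groth.Agent.S4418
import Groth.Agent.S4423
import Groth.Agent.S7320
import Groth.Agent.S7308
import Groth.Agent.S8910
import Groth.Agent.S9708
import Groth.Agent.S11555
import Groth.Agent.S14401
import Groth.Agent.S2821
import Groth.Agent.RatPullRefl.Main
import Groth.Agent.AmpleX.Comp

/-!
# Regular surfaces are quasi-projective
-/

set_option autoImplicit false
set_option linter.style.haveILetI false
set_option linter.unusedSectionVars false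
set_option backward.isDefEq.respectTransparency false
set_option backward.isDefEq.respectTransparency.types false
set_option maxHeartbeats 800000

universe u

open CategoryTheory CategoryTheory.Limits AlgebraicGeometry TopologicalSpace

noncomputable section

namespace Groth.Agent.ContrQP

open Groth.Agent

variable {X Y Z S : Scheme.{u}}

/-- Composites of quasi-projective morphisms over a quasi-compact base are quasi-projective. -/
theorem isQuasiProjective_comp [CompactSpace S] (a : X ⟶ Y) (g : Y ⟶ S) (ha : RelProj.IsQuasiProjective a)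
    (hg : RelProj.IsQuasiProjective g) : RelProj.IsQuasiProjective (a ≫ g) := by
  obtain ⟨ha1, ha2, L, hL⟩ := ha
  obtain ⟨hg1, hg2, K, hK⟩ := hg
  haveI := ha1
  haveI := ha2
  haveI := hg1
  haveI := hg2
  obtain ⟨n, -, hn⟩ := AmpleX.eventually_isRelAmple_comp a g hL hK
  exact ⟨inferInstance, inferInstance, _, hn n le_rfl⟩

/-- A blowing up in a closed point of a Noetherian scheme is projective. -/
theorem isProjective_of_contraction {E : Scheme.{u}} (ι : E ⟶ X) (b : X ⟶ Y)
    (hb : Models.IsContractionOf ι b) : RelProj.IsProjective b := by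
  obtain ⟨hY, -, y, hy, -, -, -, hB⟩ := hb
  haveI := hY
  refine S8910.result _ (fun U => ?_) b hB
  haveI : IsNoetherianRing Γ(Y, U.1) := IsLocallyNoetherian.component_noetherian U
  exact IsNoetherian.noetherian _

/-- Composites of contractions are projective. -/
theorem isProjective_of_seq {g : X ⟶ Y} (hg : Models.IsContractionSeq g) (hY : IsNoetherian Y) :
    RelProj.IsProjective g ∧ IsNoetherian X := by
  induction hg with
  | @iso W V e =>
    haveI := hY
    haveI : IsLocallyNoetherian W := isLocallyNoetherian_of_isOpenImmersion e.hom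
    haveI : CompactSpace W := QuasiCompact.compactSpace_of_compactSpace e.hom
    exact ⟨ProjCl17.isProjective_of_isFinite e.hom, {}⟩
  | @step W V U E ι b r hι hE hb hr ih =>
    haveI := hY
    obtain ⟨h1, h2⟩ := ih hY
    haveI : IsNoetherian V := h2
    haveI : LocallyOfFiniteType b := by
      haveI := hb.2.1
      infer_instance
    haveI : QuasiCompact b := by
      haveI := hb.2.1
      infer_instance
    haveI : IsLocallyNoetherian W := LocallyOfFiniteType.isLocallyNoetherian b
    haveI : CompactSpace W := QuasiCompact.compactSpace_of_compactSpace b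
    exact ⟨S9708.result b r (isProjective_of_contraction ι b hb) h1, {}⟩

/-- Quasi-projectivity descends along composites of contractions. -/
theorem isQuasiProjective_of_seq [IsNoetherian S] {r : X ⟶ Y} (hr : Models.IsContractionSeq r) :
    ∀ (f : Y ⟶ S), RelProj.IsQuasiProjective (r ≫ f) → RelProj.IsQuasiProjective f := by
  induction hr with
  | @iso W V e =>
    intro f hf
    have h := isQuasiProjective_comp e.inv (e.hom ≫ f)
      (S4418.result _ (ProjCl17.isProjective_of_isFinite e.inv)).1 hf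
    rwa [Iso.inv_hom_id_assoc] at h
  | @step W V U E ι b r hι hE hb hr ih =>
    intro f hf
    rw [Category.assoc] at hf
    haveI := hι
    haveI := hf.1
    haveI := hf.2.1
    haveI : IsLocallyNoetherian W := LocallyOfFiniteType.isLocallyNoetherian (b ≫ r ≫ f)
    haveI : CompactSpace W := QuasiCompact.compactSpace_of_compactSpace (b ≫ r ≫ f)
    haveI : IsNoetherian W := {}
    refine ih f ?_
    have hb' := hb
    obtain ⟨-, -, y, -, hy, -⟩ := hb'
    obtain ⟨a, -⟩ := hy.ge (Set.mem_singleton y)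
    have hs : Set.range ((ι ≫ b ≫ r ≫ f).base : E → S) = {(r ≫ f) y} := by
      refine Set.Subset.antisymm ?_ ?_
      · rintro _ ⟨z, rfl⟩
        show (r ≫ f) ((ι ≫ b) z) = _
        rw [show (ι ≫ b) z = y from hy.le ⟨z, rfl⟩]
      · rintro _ rfl
        refine ⟨a, ?_⟩
        show (r ≫ f) ((ι ≫ b) a) = _
        rw [show (ι ≫ b) a = y from hy.le ⟨a, rfl⟩]
    obtain ⟨V₁, b₁, g₁, hb₁, hbg, hg₁⟩ := exists_contraction (b ≫ r ≫ f) hf ι hE _ hs
    obtain ⟨e, he, -⟩ := S7308.result ι hE b hb b₁ hb₁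
    have he2 : e.hom ≫ g₁ = r ≫ f :=
      (S7307.result ι hE b hb (b ≫ r ≫ f) _ hs).unique (by rw [← Category.assoc, he, hbg]) rfl
    rw [← he2]
    exact isQuasiProjective_comp e.hom g₁ (S4418.result _ (ProjCl17.isProjective_of_isFinite e.hom)).1 hg₁

/-- The stalk map of a morphism which is an isomorphism over an open. -/
theorem isIso_stalkMap_of_restrict (π : X ⟶ Y) {U : Y.Opens} [IsIso (π ∣_ U)] {z : X} (h : π z ∈ U) :
    IsIso (π.stalkMap z) := by
  haveI : IsOpenImmersion ((π ⁻¹ᵁ U).ι ≫ π) := by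
    rw [← morphismRestrict_ι]; infer_instance
  have h1 : IsIso (((π ⁻¹ᵁ U).ι ≫ π).stalkMap ⟨z, h⟩) := inferInstance
  rw [Scheme.Hom.stalkMap_comp] at h1
  exact @IsIso.of_isIso_comp_right _ _ _ _ _ (π.stalkMap z) ((π ⁻¹ᵁ U).ι.stalkMap ⟨z, h⟩) inferInstance h1

/-- A proper birational morphism onto an integral normal scheme is an isomorphism in codimension one. -/
theorem exists_iso_integral {T W : Scheme.{u}} (p : T ⟶ W) [IsProper p] [Surjective p] [IsReduced T]
    [IsIntegral W] [IsLocallyNoetherian W] (hW : Pi1.IsNormalScheme W) (U : W.Opens) [IsIso (p ∣_ U)]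
    (hd : Dense ((p ⁻¹ᵁ U : T.Opens) : Set T)) :
    ∃ O : W.Opens, IsIso (p ∣_ O) ∧ ∀ w : W, w ∉ (O : Set W) → 2 ≤ ringKrullDim (W.presheaf.stalk w) := by
  haveI : Nonempty T := ⟨(p.surjective (genericPoint W)).choose⟩
  obtain ⟨t, htU⟩ : ((p ⁻¹ᵁ U : T.Opens) : Set T).Nonempty := hd.nonempty
  haveI : IrreducibleSpace T := by
    haveI : Nonempty (U : Scheme.{u}) := ⟨⟨p t, htU⟩⟩
    haveI : IsIntegral (U : Scheme.{u}) := isIntegral_of_isOpenImmersion U.ι
    have hirr : IsIrreducible ((p ⁻¹ᵁ U : T.Opens) : Set T) := by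
      have h := (IrreducibleSpace.isIrreducible_univ (U : Scheme.{u})).image (inv (p ∣_ U) ≫ (p ⁻¹ᵁ U).ι)
        (inv (p ∣_ U) ≫ (p ⁻¹ᵁ U).ι).continuous.continuousOn
      rw [Set.image_univ] at h
      have he : Set.range (inv (p ∣_ U) ≫ (p ⁻¹ᵁ U).ι) = ((p ⁻¹ᵁ U : T.Opens) : Set T) := by
        rw [← Scheme.Hom.coe_opensRange, Scheme.Hom.opensRange_comp_of_isIso, Scheme.Opens.opensRange_ι]
      rwa [he] at h
    have h2 := hirr.closure
    rw [hd.closure_eq] at h2
    exact { isPreirreducible_univ := h2.isPreirreducible, toNonempty := ⟨t⟩ }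
  haveI : IsIntegral T := isIntegral_of_irreducibleSpace_of_isReduced T
  have hgU : p (genericPoint T) ∈ U :=
    ((genericPoint_spec T).specializes (Set.mem_univ t)).mem_open (p ⁻¹ᵁ U).isOpen htU
  haveI : IsIso (p.stalkMap (genericPoint T)) := isIso_stalkMap_of_restrict p hgU
  have hξ : p (genericPoint T) = genericPoint W := by
    have h := (genericPoint_spec T).image p.continuous
    rw [Set.image_univ, p.surjective.range_eq, closure_univ] at h
    exact h.eq (genericPoint_spec W)
  obtain ⟨O, hO, -, hO2⟩ := S11555.result p hW hξ (ConcreteCategory.bijective_of_isIso _)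
  exact ⟨O, hO, hO2⟩

/-- Regular surfaces over a Noetherian scheme are quasi-projective. -/
theorem isQuasiProjective_of_regular [IsNoetherian S] (f : X ⟶ S) [IsSeparated f] [LocallyOfFiniteType f]
    [QuasiCompact f] (hreg : ∀ x : X, IsRegularLocalRing (X.presheaf.stalk x))
    (hdim : topologicalKrullDim X = 2) : RelProj.IsQuasiProjective f := by
  haveI : IsLocallyNoetherian X := LocallyOfFiniteType.isLocallyNoetherian f
  haveI : CompactSpace X := QuasiCompact.compactSpace_of_compactSpace f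
  haveI : IsNoetherian X := {}
  have hnor : Pi1.IsNormalScheme X := fun x => by
    haveI := hreg x
    haveI := (S2821.result (X.presheaf.stalk x)).1
    haveI := (S2821.result (X.presheaf.stalk x)).2
    exact ⟨inferInstance, inferInstance⟩
  haveI : IsReduced X := by
    haveI : ∀ x : X, _root_.IsReduced (X.presheaf.stalk x) := fun x => by
      haveI := (hnor x).1
      infer_instance
    exact isReduced_of_isReduced_stalk X
  obtain ⟨X', π, hqp, hπ, hsurj, ⟨U, hUd, hU⟩, hred, -, -⟩ := S4415.result f (Or.inl ‹_›)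
  haveI := hsurj
  haveI := hU
  haveI : IsProper π := (S4418.result π hπ).2
  haveI : IsReduced X' := hred ‹_›
  let B : Set X := {x | ∀ O : X.Opens, IsIso (π ∣_ O) → x ∉ O}
  have hBc : IsClosed B := by
    rw [show B = (⋃ (O : X.Opens) (_ : IsIso (π ∣_ O)), (O : Set X))ᶜ by ext x; simp [B]]
    exact (isOpen_iUnion fun O => isOpen_iUnion fun _ => O.isOpen).isClosed_compl
  have h2 : ∀ x ∈ B, (1 : WithBot ℕ∞) < ringKrullDim (X.presheaf.stalk x) := by
    intro x hx
    by_contra h
    obtain ⟨hopen, hC⟩ := S14401.result X fun z => (hnor z).1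
    obtain ⟨C, ⟨hC1, hxC⟩, -⟩ := hC x
    let W : X.Opens := ⟨C, hopen C hC1⟩
    haveI : IrreducibleSpace (W : Scheme.{u}) :=
      haveI : Nonempty (W : Scheme.{u}) := ⟨⟨x, hxC⟩⟩
      { isPreirreducible_univ := by
          have h := hC1.1.2.preimage W.ι.isOpenEmbedding
          have he : W.ι ⁻¹' C = Set.univ := Set.eq_univ_of_forall fun z => z.2
          rwa [he] at h
        toNonempty := inferInstance }
    haveI : IsIntegral (W : Scheme.{u}) := isIntegral_of_irreducibleSpace_of_isReduced _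
    have hWn : Pi1.IsNormalScheme (W : Scheme.{u}) := fun z =>
      ⟨(W.stalkIso z).commRingCatIsoToRingEquiv.toMulEquiv.isDomain_iff.2 (hnor z.1).1,
        haveI := (hnor z.1).2
        IsIntegrallyClosed.of_equiv (W.stalkIso z).commRingCatIsoToRingEquiv.symm⟩
    haveI : IsProper (π ∣_ W) := IsZariskiLocalAtTarget.restrict (P := @IsProper) ‹_› W
    haveI : Surjective (π ∣_ W) := IsZariskiLocalAtTarget.restrict (P := @Surjective) ‹_› W
    haveI : IsIso ((π ∣_ W) ∣_ (W.ι ⁻¹ᵁ U)) := by
      refine ((MorphismProperty.isomorphisms Scheme).arrow_mk_iso_iff (morphismRestrictRestrict π W (W.ι ⁻¹ᵁ U))).2 ?_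
      refine PointBlow.isIso_restrict_mono π (U := U) ?_
      rintro _ ⟨z, hz, rfl⟩
      exact hz
    have hd : Dense (((π ∣_ W) ⁻¹ᵁ (W.ι ⁻¹ᵁ U) : (π ⁻¹ᵁ W).toScheme.Opens) : Set (π ⁻¹ᵁ W).toScheme) := by
      have he : (((π ∣_ W) ⁻¹ᵁ (W.ι ⁻¹ᵁ U) : (π ⁻¹ᵁ W).toScheme.Opens) : Set (π ⁻¹ᵁ W).toScheme) =
          (π ⁻¹ᵁ W).ι ⁻¹' (π ⁻¹ᵁ U : X'.Opens) := by
        ext z
        show ((π ∣_ W) z).1 ∈ U ↔ π z.1 ∈ U
        rw [morphismRestrict_base_coe]
      rw [he]
      exact hUd.preimage (π ⁻¹ᵁ W).ι.isOpenEmbedding.isOpenMap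
    obtain ⟨O, hO, hO2⟩ := exists_iso_integral (π ∣_ W) hWn (W.ι ⁻¹ᵁ U) hd
    haveI := hO
    have hxO : (⟨x, hxC⟩ : W) ∈ O := by
      by_contra hn
      refine h (lt_of_lt_of_le (by decide : (1 : WithBot ℕ∞) < 2) ?_)
      rw [← ringKrullDim_eq_of_ringEquiv (W.stalkIso ⟨x, hxC⟩).commRingCatIsoToRingEquiv]
      exact hO2 _ hn
    exact hx (W.ι ''ᵁ O) (((MorphismProperty.isomorphisms Scheme).arrow_mk_iso_iff
      (morphismRestrictRestrict π W O)).1 hO) ⟨⟨x, hxC⟩, hxO, rfl⟩
  obtain ⟨hfin, hpt⟩ := RatPullRefl.finite_closed (by rw [hdim]; norm_cast) hBc h2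
  have hT : ∀ x ∈ B, IsClosed ({x} : Set X) ∧ IsRegularLocalRing (X.presheaf.stalk x) ∧
      ringKrullDim (X.presheaf.stalk x) = 2 := fun x hx =>
    ⟨hpt x hx, hreg x, SurfSeq.eq_two ((SchTop.ringKrullDim_stalk_le x).trans hdim.le) (not_le.2 (h2 x hx))⟩
  have hiso : IsIso (π ∣_ (⟨Bᶜ, hBc.isOpen_compl⟩ : X.Opens)) := by
    let T : X.Opens := ⟨Bᶜ, hBc.isOpen_compl⟩
    let κ := {O : X.Opens // IsIso (π ∣_ O)}
    refine IsZariskiLocalAtTarget.of_iSup_eq_top (P := MorphismProperty.isomorphisms Scheme)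
      (fun O : κ => T.ι ⁻¹ᵁ O.1) (top_le_iff.1 fun z _ => ?_) fun O => ?_
    · obtain ⟨O, hO, hz⟩ : ∃ O : X.Opens, IsIso (π ∣_ O) ∧ z.1 ∈ O := by
        exact by_contra fun hn => z.2 fun O hO hz => hn ⟨O, hO, hz⟩
      exact Opens.mem_iSup.2 ⟨⟨O, hO⟩, hz⟩
    · haveI := O.2
      refine ((MorphismProperty.isomorphisms Scheme).arrow_mk_iso_iff (morphismRestrictRestrict π T (T.ι ⁻¹ᵁ O.1))).2 ?_
      refine PointBlow.isIso_restrict_mono π (U := O.1) ?_
      rintro _ ⟨z, hz, rfl⟩
      exact hz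
  obtain ⟨X₂, g, hg, -, h, hh⟩ := S7320.result X B hfin hBc hT π hiso
  obtain ⟨hgp, hX₂⟩ := isProjective_of_seq hg ‹_›
  have hhp : RelProj.IsProjective h := ProjCl17.isProjective_of_comp h π (hh ▸ hgp)
  have hgf : RelProj.IsQuasiProjective (g ≫ f) := by
    rw [← hh, Category.assoc]
    exact isQuasiProjective_comp h (π ≫ f) (S4418.result h hhp).1 hqp
  exact isQuasiProjective_of_seq hg f hgf

end Groth.Agent.ContrQP
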